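import Mathlib
import Groth.Agent.Lib.Helper1.FlatNilpotent

/-! Flat deformations of a formally smooth algebra over a base with nilpotent augmentation ideal
are trivial (algebra core). -/

set_option autoImplicit false
set_option linter.style.haveILetI false
universe u
open TensorProduct

namespace Groth.Agent.H8.TrivDef

section Core

variable {k : Type u} [Field k] {A : Type u} [CommRing A] [Algebra k A]
  {B' : Type u} [CommRing B'] [Algebra A B'] [Algebra k B'] [IsScalarTower k A B']
  {B : Type u} [CommRing B] [Algebra k B]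
  (e : A →ₐ[k] k) (ι : B' →ₐ[k] B)

include e in
lemma mk_eq_mk_algebraMap (a : A) :
    Ideal.Quotient.mk (RingHom.ker e.toRingHom) a =
      Ideal.Quotient.mk (RingHom.ker e.toRingHom) (algebraMap k A (e a)) := by
  rw [Ideal.Quotient.eq, RingHom.mem_ker]
  show e (a - algebraMap k A (e a)) = 0
  rw [map_sub, AlgHom.commutes]
  simp

lemma isNilpotent_ker (hI : IsNilpotent (RingHom.ker e.toRingHom))
    (hker : RingHom.ker ι.toRingHom = (RingHom.ker e.toRingHom).map (algebraMap A B')) :
    IsNilpotent (RingHom.ker (ι : B' →+* B)) := by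
  obtain ⟨n, hn⟩ := hI
  refine ⟨n, ?_⟩
  have h1 : RingHom.ker (ι : B' →+* B) = (RingHom.ker e.toRingHom).map (algebraMap A B') := hker
  rw [h1, ← Ideal.map_pow, hn]
  exact Ideal.map_bot

theorem exists_section [Algebra.FormallySmooth k B]
    (hI : IsNilpotent (RingHom.ker e.toRingHom)) (hsurj : Function.Surjective ι)
    (hker : RingHom.ker ι.toRingHom = (RingHom.ker e.toRingHom).map (algebraMap A B')) :
    ∃ σ : B →ₐ[k] B', ∀ b, ι (σ b) = b :=
  ⟨Algebra.FormallySmooth.liftOfSurjective (AlgHom.id k B) ι hsurj (isNilpotent_ker e ι hI hker),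
    fun b => Algebra.FormallySmooth.liftOfSurjective_apply (AlgHom.id k B) ι hsurj
      (isNilpotent_ker e ι hI hker) b⟩

/-- a flat deformation with a section is trivial -/
theorem exists_equiv_of_section [Module.Flat A B']
    (hI : IsNilpotent (RingHom.ker e.toRingHom))
    (hker : RingHom.ker ι.toRingHom = (RingHom.ker e.toRingHom).map (algebraMap A B'))
    (hcompat : ∀ a, ι (algebraMap A B' a) = algebraMap k B (e a))
    (σ : B →ₐ[k] B') (hσ : ∀ b, ι (σ b) = b) :
    ∃ Φ : A ⊗[k] B ≃ₐ[A] B', ∀ a b, Φ (a ⊗ₜ b) = algebraMap A B' a * σ b := by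
  classical
  set I := RingHom.ker e.toRingHom with hIdef
  let Φ₀ : A ⊗[k] B →ₐ[A] B' :=
    Algebra.TensorProduct.lift (Algebra.ofId A B') σ (fun _ _ => Commute.all _ _)
  have hΦ₀ : ∀ a b, Φ₀ (a ⊗ₜ b) = algebraMap A B' a * σ b := fun a b => by
    simp [Φ₀, Algebra.ofId_apply]
  -- the map `A/I → k`
  let eb : (A ⧸ I) →+* k := Ideal.Quotient.lift I e.toRingHom (fun a ha => ha)
  have heb : ∀ a, eb (Ideal.Quotient.mk I a) = e a := fun a => rfl
  -- θ
  have hθ : ∀ z : (A ⧸ I) ⊗[A] (A ⊗[k] B), ∃ b : B, z = (1 : A ⧸ I) ⊗ₜ[A] ((1 : A) ⊗ₜ[k] b) := by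
    intro z
    induction z using TensorProduct.induction_on with
    | zero => exact ⟨0, by rw [tmul_zero, tmul_zero]⟩
    | add z₁ z₂ h₁ h₂ =>
      obtain ⟨b₁, rfl⟩ := h₁
      obtain ⟨b₂, rfl⟩ := h₂
      exact ⟨b₁ + b₂, by rw [tmul_add, tmul_add]⟩
    | tmul q t =>
      induction t using TensorProduct.induction_on with
      | zero => exact ⟨0, by rw [tmul_zero, tmul_zero, tmul_zero]⟩
      | add t₁ t₂ h₁ h₂ =>
        obtain ⟨b₁, h₁⟩ := h₁
        obtain ⟨b₂, h₂⟩ := h₂
        exact ⟨b₁ + b₂, by rw [tmul_add, h₁, h₂, tmul_add, tmul_add]⟩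
      | tmul a b =>
        obtain ⟨c, rfl⟩ := Ideal.Quotient.mk_surjective q
        refine ⟨e (a * c) • b, ?_⟩
        have h1 : (a : A) ⊗ₜ[k] b = a • ((1 : A) ⊗ₜ[k] b) := by
          rw [TensorProduct.smul_tmul', smul_eq_mul, mul_one]
        have h2 : a • (Ideal.Quotient.mk I c) = Ideal.Quotient.mk I (a * c) := by
          rw [Algebra.smul_def, Ideal.Quotient.algebraMap_eq, ← map_mul]
        have h3 : Ideal.Quotient.mk I (algebraMap k A (e (a * c))) =
            (algebraMap k A (e (a * c))) • (1 : A ⧸ I) := by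
          rw [Algebra.smul_def, Ideal.Quotient.algebraMap_eq, mul_one]
        have h4 : (algebraMap k A (e (a * c))) • ((1 : A) ⊗ₜ[k] b) =
            (1 : A) ⊗ₜ[k] (e (a * c) • b) := by
          rw [TensorProduct.smul_tmul', smul_eq_mul, mul_one, Algebra.algebraMap_eq_smul_one,
            TensorProduct.smul_tmul]
        rw [h1, ← TensorProduct.smul_tmul, h2, mk_eq_mk_algebraMap e (a * c), h3,
          TensorProduct.smul_tmul, h4]
  -- F
  let f : (A ⧸ I) →+ B' →+ B :=
    { toFun := fun q =>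
        { toFun := fun b' => algebraMap k B (eb q) * ι b'
          map_zero' := by simp
          map_add' := fun x y => by rw [map_add, mul_add] }
      map_zero' := by ext b'; simp
      map_add' := fun x y => by ext b'; simp [add_mul] }
  have hf : ∀ (r : A) (q : A ⧸ I) (b' : B'), f (r • q) b' = f q (r • b') := by
    intro r q b'
    obtain ⟨c, rfl⟩ := Ideal.Quotient.mk_surjective q
    show algebraMap k B (eb (r • Ideal.Quotient.mk I c)) * ι b' =
      algebraMap k B (eb (Ideal.Quotient.mk I c)) * ι (r • b')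
    have h2 : r • (Ideal.Quotient.mk I c) = Ideal.Quotient.mk I (r * c) := by
      rw [Algebra.smul_def, Ideal.Quotient.algebraMap_eq, ← map_mul]
    rw [h2, heb, heb, Algebra.smul_def, map_mul ι, hcompat, map_mul e, map_mul (algebraMap k B)]
    ring
  let F : (A ⧸ I) ⊗[A] B' →+ B := TensorProduct.liftAddHom f hf
  have hF : ∀ q b', F (q ⊗ₜ b') = algebraMap k B (eb q) * ι b' := fun q b' => rfl
  -- zero on I B'
  have hzero : ∀ x ∈ I.map (algebraMap A B'), ∀ q : A ⧸ I, q ⊗ₜ[A] x = 0 := by
    intro x hx q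
    have hx' : x ∈ (I • (⊤ : Submodule A B')) := by
      rw [Ideal.smul_top_eq_map]
      exact hx
    refine Submodule.smul_induction_on (p := fun x => q ⊗ₜ[A] x = 0) hx' ?_ ?_
    · intro r hr n _
      show q ⊗ₜ[A] (r • n) = 0
      rw [← TensorProduct.smul_tmul]
      have : r • q = 0 := by
        obtain ⟨c, rfl⟩ := Ideal.Quotient.mk_surjective q
        rw [Algebra.smul_def, Ideal.Quotient.algebraMap_eq, Ideal.Quotient.eq_zero_iff_mem.mpr hr,
          zero_mul]
      rw [this, zero_tmul]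
    · intro x y hx hy
      show q ⊗ₜ[A] (x + y) = 0
      rw [tmul_add, hx, hy, add_zero]
  have hbij : Function.Bijective (Φ₀.toLinearMap.lTensor (A ⧸ I)) := by
    constructor
    · rw [injective_iff_map_eq_zero]
      intro z hz
      obtain ⟨b, rfl⟩ := hθ z
      have h1 : F ((Φ₀.toLinearMap.lTensor (A ⧸ I)) ((1 : A ⧸ I) ⊗ₜ[A] ((1 : A) ⊗ₜ[k] b))) = b := by
        rw [LinearMap.lTensor_tmul, AlgHom.toLinearMap_apply, hΦ₀, hF]
        simp [hσ]
      rw [hz, map_zero] at h1
      rw [← h1, tmul_zero, tmul_zero]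
    · intro w
      induction w using TensorProduct.induction_on with
      | zero => exact ⟨0, map_zero _⟩
      | add w₁ w₂ h₁ h₂ =>
        obtain ⟨z₁, rfl⟩ := h₁
        obtain ⟨z₂, rfl⟩ := h₂
        exact ⟨z₁ + z₂, map_add _ _ _⟩
      | tmul q b' =>
        refine ⟨q ⊗ₜ[A] ((1 : A) ⊗ₜ[k] ι b'), ?_⟩
        rw [LinearMap.lTensor_tmul, AlgHom.toLinearMap_apply, hΦ₀, map_one, one_mul]
        have hmem : b' - σ (ι b') ∈ I.map (algebraMap A B') := by
          rw [← hker, RingHom.mem_ker]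
          show ι (b' - σ (ι b')) = 0
          rw [map_sub, hσ, sub_self]
        have := hzero _ hmem q
        rw [tmul_sub, sub_eq_zero] at this
        exact this.symm
  have hbij' : Function.Bijective Φ₀ :=
    Groth.Agent.H1.bijective_of_lTensor_bijective_of_isNilpotent hI Φ₀.toLinearMap hbij
  exact ⟨AlgEquiv.ofBijective Φ₀ hbij', fun a b => hΦ₀ a b⟩

end Core

end Groth.Agent.H8.TrivDef
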