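import Mathlib

/-! Vector fields with prescribed values at finitely many rational points of a smooth algebra,
and the resulting automorphisms of the trivial first order deformation. -/

set_option autoImplicit false
set_option linter.style.haveILetI false
universe u v
open KaehlerDifferential TrivSqZeroExt

namespace Groth.Agent.H8.TrivDef

theorem exists_derivation (k : Type u) [Field k] (A : Type u) [CommRing A] [Algebra k A]
    [Module.Projective A (Ω[A⁄k])] {ι : Type v} [Finite ι] (q : ι → (A →ₐ[k] k))
    (hq : Function.Injective q) (δ : ι → (A →ₗ[k] k))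
    (hδ : ∀ i a b, δ i (a * b) = q i a * δ i b + q i b * δ i a) :
    ∃ D : Derivation k A A, ∀ i a, q i (D a) = δ i a := by
  classical
  let I : ι → Ideal A := fun i => RingHom.ker (q i).toRingHom
  have hmax : ∀ i, (I i).IsMaximal := fun i =>
    RingHom.ker_isMaximal_of_surjective _ (fun c => ⟨algebraMap k A c, by simp⟩)
  have hmemI : ∀ i a, a ∈ I i ↔ q i a = 0 := fun i a => RingHom.mem_ker
  have hmem : ∀ i a, a - algebraMap k A (q i a) ∈ I i := fun i a => by
    rw [hmemI, map_sub, AlgHom.commutes]
    simp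
  have hne : ∀ i j, i ≠ j → I i ≠ I j := by
    intro i j hij h
    apply hij
    apply hq
    ext a
    have h1 := hmem i a
    rw [h, hmemI, map_sub, AlgHom.commutes, sub_eq_zero] at h1
    simpa using h1.symm
  have hcop : Pairwise (Function.onFun IsCoprime I) := fun i j hij => by
    haveI := hmax i
    haveI := hmax j
    exact Ideal.isCoprime_of_isMaximal (hne i j hij)
  -- the surjection `A → ∏ A/I i`
  let f : A →ₗ[A] (∀ i, A ⧸ I i) := LinearMap.pi (fun i => (I i).mkQ)
  have hf : Function.Surjective f := by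
    intro y
    obtain ⟨x, hx⟩ := Ideal.quotientInfToPiQuotient_surj hcop y
    obtain ⟨a, rfl⟩ := Ideal.Quotient.mk_surjective x
    exact ⟨a, hx⟩
  -- the one point derivations
  have hone : ∀ i, δ i 1 = 0 := fun i => by
    have := hδ i 1 1
    have hq1 : q i 1 = 1 := map_one (q i)
    rw [mul_one, hq1, one_mul] at this
    have h2 : δ i 1 + δ i 1 = δ i 1 + 0 := by rw [add_zero]; exact this.symm
    exact add_left_cancel h2
  have hmk : ∀ i a, Ideal.Quotient.mk (I i) a = algebraMap k (A ⧸ I i) (q i a) := fun i a => by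
    rw [← Ideal.Quotient.mk_algebraMap, Ideal.Quotient.eq]
    exact hmem i a
  let d : ∀ i, Derivation k A (A ⧸ I i) := fun i =>
    { toLinearMap := (Algebra.linearMap k (A ⧸ I i)) ∘ₗ δ i
      map_one_eq_zero' := by
        show algebraMap k (A ⧸ I i) (δ i 1) = 0
        rw [hone, map_zero]
      leibniz' := fun a b => by
        show algebraMap k (A ⧸ I i) (δ i (a * b)) =
          a • algebraMap k (A ⧸ I i) (δ i b) + b • algebraMap k (A ⧸ I i) (δ i a)
        rw [hδ, Algebra.smul_def, Algebra.smul_def, Ideal.Quotient.algebraMap_eq, hmk, hmk,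
          map_add, map_mul, map_mul] }
  have hd : ∀ i a, d i a = algebraMap k (A ⧸ I i) (δ i a) := fun i a => rfl
  let g : Ω[A⁄k] →ₗ[A] (∀ i, A ⧸ I i) := LinearMap.pi (fun i => (d i).liftKaehlerDifferential)
  obtain ⟨h, hh⟩ := Module.projective_lifting_property f g hf
  refine ⟨h.compDer (KaehlerDifferential.D k A), fun i a => ?_⟩
  have h1 : f (h (KaehlerDifferential.D k A a)) i = g (KaehlerDifferential.D k A a) i := by
    rw [← hh]
    rfl
  have h2 : Ideal.Quotient.mk (I i) (h (KaehlerDifferential.D k A a)) =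
      algebraMap k (A ⧸ I i) (δ i a) := by
    have : g (KaehlerDifferential.D k A a) i = d i a :=
      Derivation.liftKaehlerDifferential_comp_D (d i) a
    rw [← hd, ← this, ← h1]
    rfl
  rw [hmk] at h2
  have hinj : Function.Injective (algebraMap k (A ⧸ I i)) := by
    haveI := hmax i
    letI := Ideal.Quotient.field (I i)
    exact (algebraMap k (A ⧸ I i)).injective
  exact hinj h2

/-- the automorphism `x ↦ (x₀, x₁ - D x₀)` of the dual numbers over `A` -/
noncomputable def shear (k : Type u) [Field k] (A : Type u) [CommRing A] [Algebra k A]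
    (D : Derivation k A A) : DualNumber A ≃ₐ[k] DualNumber A where
  toFun x := (x.fst, x.snd - D x.fst)
  invFun x := (x.fst, x.snd + D x.fst)
  left_inv x := by
    apply TrivSqZeroExt.ext
    · rfl
    · show x.snd - D x.fst + D x.fst = x.snd
      ring
  right_inv x := by
    apply TrivSqZeroExt.ext
    · rfl
    · show x.snd + D x.fst - D x.fst = x.snd
      ring
  map_mul' x y := by
    apply TrivSqZeroExt.ext
    · rfl
    · show (x * y).snd - D ((x * y).fst) =
        x.fst * (y.snd - D y.fst) + (x.snd - D x.fst) * y.fst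
      rw [TrivSqZeroExt.fst_mul, DualNumber.snd_mul, Derivation.leibniz, smul_eq_mul, smul_eq_mul]
      ring
  map_add' x y := by
    apply TrivSqZeroExt.ext
    · rfl
    · show (x + y).snd - D ((x + y).fst) = (x.snd - D x.fst) + (y.snd - D y.fst)
      rw [TrivSqZeroExt.fst_add, TrivSqZeroExt.snd_add, map_add]
      ring
  commutes' c := by
    apply TrivSqZeroExt.ext
    · rfl
    · show (algebraMap k (DualNumber A) c).snd - D ((algebraMap k (DualNumber A) c).fst) =
        (algebraMap k (DualNumber A) c).snd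
      have h1 : (algebraMap k (DualNumber A) c).fst = algebraMap k A c := rfl
      rw [h1, Derivation.map_algebraMap, sub_zero]

theorem main15988
    (k : Type u) [Field k] (A : Type u) [CommRing A] [Algebra k A] [Algebra.Smooth k A]
    {ι : Type v} [Finite ι] (q : ι → (A →ₐ[k] k)) (hq : Function.Injective q)
    (q' : ι → (DualNumber A →ₐ[k] DualNumber k))
    (hε : ∀ i, q' i DualNumber.eps = DualNumber.eps) (hq' : ∀ i x, (q' i x).fst = q i x.fst) :
    ∃ φ : DualNumber A ≃ₐ[k] DualNumber A,
      φ DualNumber.eps = DualNumber.eps ∧ (∀ x, (φ x).fst = x.fst) ∧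
        ∀ i x, (q' i (φ x)).fst = q i x.fst ∧ (q' i (φ x)).snd = q i x.snd := by
  let δ : ι → (A →ₗ[k] k) := fun i =>
    (TrivSqZeroExt.sndHom k k) ∘ₗ (q' i).toLinearMap ∘ₗ
      (TrivSqZeroExt.inlAlgHom k A A).toLinearMap
  have hδdef : ∀ i a, δ i a = (q' i (TrivSqZeroExt.inl a)).snd := fun i a => rfl
  have hδ : ∀ i a b, δ i (a * b) = q i a * δ i b + q i b * δ i a := by
    intro i a b
    rw [hδdef, hδdef, hδdef, TrivSqZeroExt.inl_mul, map_mul, DualNumber.snd_mul, hq', hq',
      TrivSqZeroExt.fst_inl, TrivSqZeroExt.fst_inl]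
    ring
  obtain ⟨D, hD⟩ := exists_derivation k A q hq δ hδ
  have hsnd : ∀ i (x : DualNumber A), (q' i x).snd = δ i x.fst + q i x.snd := by
    intro i x
    have hx : x = TrivSqZeroExt.inl x.fst + TrivSqZeroExt.inl x.snd * DualNumber.eps := by
      apply TrivSqZeroExt.ext <;> simp
    conv_lhs => rw [hx]
    rw [map_add, map_mul, hε, TrivSqZeroExt.snd_add, DualNumber.snd_mul, DualNumber.snd_eps,
      DualNumber.fst_eps, mul_one, mul_zero, add_zero, hq', TrivSqZeroExt.fst_inl, hδdef]
  refine ⟨shear k A D, ?_, fun x => rfl, fun i x => ⟨?_, ?_⟩⟩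
  · apply TrivSqZeroExt.ext
    · rfl
    · show (DualNumber.eps : DualNumber A).snd - D ((DualNumber.eps : DualNumber A).fst) =
        (DualNumber.eps : DualNumber A).snd
      rw [DualNumber.fst_eps, map_zero, sub_zero]
  · rw [hq']
    rfl
  · rw [hsnd]
    show δ i x.fst + q i (x.snd - D x.fst) = q i x.snd
    rw [map_sub, hD]
    ring

end Groth.Agent.H8.TrivDef
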