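import Mathlib
import Groth.Agent.Lib.Helper8.TrivDef.Marked

/-! Adjusting a section of a first order deformation so that it is compatible with finitely many
marked sections. -/

set_option autoImplicit false
set_option linter.style.haveILetI false
universe u v
open KaehlerDifferential TrivSqZeroExt

namespace Groth.Agent.H8.TrivDef

theorem exists_marked_section (k : Type u) [Field k] {B B' : Type u} [CommRing B] [CommRing B']
    [Algebra k B] [Algebra (DualNumber k) B'] [Algebra k B'] [IsScalarTower k (DualNumber k) B']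
    [Module.Projective B (Ω[B⁄k])] (ιa : B' →ₐ[k] B)
    (hιa : ∀ l : DualNumber k, ιa (algebraMap (DualNumber k) B' l) = algebraMap k B l.fst)
    (σ₀ : B →ₐ[k] B') (hσ₀ : ∀ b, ιa (σ₀ b) = b) {ι : Type v} [Finite ι]
    (q : ι → (B →ₐ[k] k)) (hq : Function.Injective q)
    (π' : ι → (B' →ₐ[DualNumber k] DualNumber k))
    (hπ' : ∀ j b', (π' j b').fst = q j (ιa b')) :
    ∃ σ : B →ₐ[k] B', (∀ b, ιa (σ b) = b) ∧
      ∀ j b, π' j (σ b) = algebraMap k (DualNumber k) (q j b) := by
  have hfst : ∀ j b, (π' j (σ₀ b)).fst = q j b := fun j b => by rw [hπ', hσ₀]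
  have halg : ∀ c : k, algebraMap k B' c =
      algebraMap (DualNumber k) B' (algebraMap k (DualNumber k) c) := fun c =>
    IsScalarTower.algebraMap_apply k (DualNumber k) B' c
  let δ : ι → (B →ₗ[k] k) := fun j =>
    { toFun := fun b => (π' j (σ₀ b)).snd
      map_add' := fun a b => by rw [map_add, map_add, TrivSqZeroExt.snd_add]
      map_smul' := fun c b => by
        rw [Algebra.smul_def, map_mul, AlgHom.commutes, halg, map_mul, AlgHom.commutes,
          DualNumber.snd_mul]
        simp [TrivSqZeroExt.algebraMap_eq_inl] }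
  have hδdef : ∀ j b, δ j b = (π' j (σ₀ b)).snd := fun j b => rfl
  have hδ : ∀ j a b, δ j (a * b) = q j a * δ j b + q j b * δ j a := by
    intro j a b
    rw [hδdef, hδdef, hδdef, map_mul, map_mul, DualNumber.snd_mul, hfst, hfst]
    ring
  obtain ⟨D, hD⟩ := exists_derivation k B q hq δ hδ
  set ε' : B' := algebraMap (DualNumber k) B' DualNumber.eps with hε'
  have hε2 : ε' * ε' = 0 := by
    rw [hε', ← map_mul, DualNumber.eps_mul_eps, map_zero]
  have hιε : ιa ε' = 0 := by
    rw [hε', hιa, DualNumber.fst_eps, map_zero]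
  let σ : B →ₐ[k] B' :=
    { toFun := fun b => σ₀ b - ε' * σ₀ (D b)
      map_one' := by
        rw [Derivation.map_one_eq_zero, map_zero, mul_zero, sub_zero, map_one]
      map_mul' := fun a b => by
        rw [Derivation.leibniz, smul_eq_mul, smul_eq_mul, map_add, map_mul, map_mul, map_mul]
        linear_combination (-(σ₀ (D a) * σ₀ (D b))) * hε2
      map_zero' := by
        rw [map_zero, map_zero, map_zero, mul_zero, sub_zero]
      map_add' := fun a b => by
        rw [map_add, map_add, map_add]
        ring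
      commutes' := fun c => by
        show σ₀ (algebraMap k B c) - ε' * σ₀ (D (algebraMap k B c)) = algebraMap k B' c
        rw [Derivation.map_algebraMap, map_zero, mul_zero, sub_zero, AlgHom.commutes] }
  have hσdef : ∀ b, σ b = σ₀ b - ε' * σ₀ (D b) := fun b => rfl
  refine ⟨σ, fun b => ?_, fun j b => ?_⟩
  · rw [hσdef, map_sub, map_mul, hιε, zero_mul, sub_zero, hσ₀]
  · have hπε : π' j ε' = DualNumber.eps := by
      rw [hε', AlgHom.commutes]
      rfl
    rw [hσdef, map_sub, map_mul, hπε]
    apply TrivSqZeroExt.ext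
    · rw [TrivSqZeroExt.fst_sub, TrivSqZeroExt.fst_mul, DualNumber.fst_eps, zero_mul, sub_zero,
        hfst]
      rfl
    · rw [TrivSqZeroExt.snd_sub, DualNumber.snd_mul, DualNumber.fst_eps, DualNumber.snd_eps,
        zero_mul, one_mul, zero_add, hfst, hD, hδdef, sub_self]
      rfl

end Groth.Agent.H8.TrivDef
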