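import Mathlib
import Groth.Agent.Lib.Helper8.TrivDef.Core
import Groth.Agent.Lib.Helper1.ThickAff5
import Groth.Agent.Lib.Helper1.ThickeningLocal

/-! Scheme wrapper: a flat deformation of a smooth affine scheme over a base with nilpotent
augmentation ideal is trivial. -/

set_option autoImplicit false
set_option linter.style.haveILetI false
universe u
open CategoryTheory Limits AlgebraicGeometry TensorProduct

namespace Groth.Agent.H8.TrivDef

lemma eq_isoSpec_comp {X : Scheme.{u}} [IsAffine X] {R : CommRingCat.{u}} (h : X ⟶ Spec R) :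
    h = X.isoSpec.hom ≫ Spec.map ((Scheme.ΓSpecIso R).inv ≫ h.appTop) := by
  rw [Spec.map_comp, ← Scheme.isoSpec_Spec_inv, Scheme.isoSpec_hom_naturality_assoc,
    Iso.hom_inv_id, Category.comp_id]

lemma isPushout_Γ {X X' : Scheme.{u}} [IsAffine X] [IsAffine X'] {R R' : CommRingCat.{u}}
    (hX : X ⟶ Spec R) (g : X' ⟶ Spec R') (i : X ⟶ X') (ε : R' ⟶ R)
    (hsq : IsPullback i hX g (Spec.map ε)) :
    IsPushout ((Scheme.ΓSpecIso R').inv ≫ g.appTop) ε i.appTop
      ((Scheme.ΓSpecIso R).inv ≫ hX.appTop) := by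
  set ψ := (Scheme.ΓSpecIso R').inv ≫ g.appTop with hψ
  set η := (Scheme.ΓSpecIso R).inv ≫ hX.appTop with hη
  have hsq' : IsPullback (Spec.map i.appTop) (Spec.map η) (Spec.map ψ) (Spec.map ε) :=
    IsPullback.of_iso hsq X.isoSpec X'.isoSpec (Iso.refl _) (Iso.refl _)
      (Scheme.isoSpec_hom_naturality i).symm
      (by rw [Iso.refl_hom, Category.comp_id]; exact eq_isoSpec_comp hX)
      (by rw [Iso.refl_hom, Category.comp_id]; exact eq_isoSpec_comp g)
      (by simp)
  have hw : i.appTop.op ≫ ψ.op = η.op ≫ ε.op := by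
    apply Quiver.Hom.unop_inj
    apply Spec.map_injective
    simpa using hsq'.w
  have h2 : IsPullback i.appTop.op η.op ψ.op ε.op :=
    IsPullback.of_map Scheme.Spec hw (by simpa using hsq')
  exact h2.unop.flip

section

variable {k : Type u} [Field k] {A : Type u} [CommRing A] [Algebra k A] (e : A →ₐ[k] k)

lemma surjective_e : Function.Surjective e := fun c => ⟨algebraMap k A c, by simp⟩

/-- `Spec e` is surjective when `ker e` is nilpotent -/
lemma surjective_Spec (hnil : IsNilpotent (RingHom.ker e.toRingHom)) :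
    Function.Surjective (Spec.map (CommRingCat.ofHom e.toRingHom)) := by
  intro p
  obtain ⟨n, hn⟩ := hnil
  haveI : (RingHom.ker e.toRingHom).IsMaximal :=
    RingHom.ker_isMaximal_of_surjective _ (surjective_e e)
  haveI : (PrimeSpectrum.asIdeal p).IsPrime := p.isPrime
  have hle : RingHom.ker e.toRingHom ≤ PrimeSpectrum.asIdeal p := by
    apply Ideal.IsPrime.le_of_pow_le (n := n)
    rw [hn]
    exact bot_le
  have heq : RingHom.ker e.toRingHom = PrimeSpectrum.asIdeal p :=
    Ideal.IsMaximal.eq_of_le inferInstance p.isPrime.ne_top hle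
  refine ⟨(⟨⊥, Ideal.bot_prime⟩ : PrimeSpectrum k), ?_⟩
  apply PrimeSpectrum.ext
  show Ideal.comap e.toRingHom ⊥ = PrimeSpectrum.asIdeal p
  rw [← heq]
  rfl

theorem isAffine_of_isPullback (hnil : IsNilpotent (RingHom.ker e.toRingHom))
    {X X' : Scheme.{u}} [IsAffine X] (hX : X ⟶ Spec (CommRingCat.of k))
    (g : X' ⟶ Spec (CommRingCat.of A)) (i : X ⟶ X')
    (hsq : IsPullback i hX g (Spec.map (CommRingCat.ofHom e.toRingHom))) : IsAffine X' := by
  haveI : IsClosedImmersion (Spec.map (CommRingCat.ofHom e.toRingHom)) :=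
    IsClosedImmersion.spec_of_surjective _ (surjective_e e)
  haveI : IsClosedImmersion i := MorphismProperty.of_isPullback hsq.flip inferInstance
  haveI : Surjective (Spec.map (CommRingCat.ofHom e.toRingHom)) := ⟨surjective_Spec e hnil⟩
  have hs : Surjective i := MorphismProperty.of_isPullback hsq.flip inferInstance
  exact Groth.Agent.H1.ThickAff.isAffine_of_thickening i hs.surj

/-- main affine statement: sections of the reduction map give trivializations, and sections
exist when the special fibre is formally smooth -/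
theorem main_affine (hnil : IsNilpotent (RingHom.ker e.toRingHom))
    {X X' : Scheme.{u}} [IsAffine X] [IsAffine X'] (hX : X ⟶ Spec (CommRingCat.of k))
    (g : X' ⟶ Spec (CommRingCat.of A)) [Flat g] (i : X ⟶ X')
    (hsq : IsPullback i hX g (Spec.map (CommRingCat.ofHom e.toRingHom))) :
    (∀ (σ : Γ(X, ⊤) ⟶ Γ(X', ⊤)), σ ≫ i.appTop = 𝟙 _ →
      ((Scheme.ΓSpecIso (CommRingCat.of k)).inv ≫ hX.appTop) ≫ σ =
        CommRingCat.ofHom (algebraMap k A) ≫ (Scheme.ΓSpecIso (CommRingCat.of A)).inv ≫ g.appTop →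
      ∃ φ : X' ≅ pullback hX (Spec.map (CommRingCat.ofHom (algebraMap k A))),
        φ.hom ≫ pullback.snd _ _ = g ∧
        φ.hom ≫ pullback.fst _ _ = X'.isoSpec.hom ≫ Spec.map σ ≫ X.isoSpec.inv) ∧
    (((Scheme.ΓSpecIso (CommRingCat.of k)).inv ≫ hX.appTop).hom.FormallySmooth →
      ∃ σ : Γ(X, ⊤) ⟶ Γ(X', ⊤), σ ≫ i.appTop = 𝟙 _ ∧
        ((Scheme.ΓSpecIso (CommRingCat.of k)).inv ≫ hX.appTop) ≫ σ =
          CommRingCat.ofHom (algebraMap k A) ≫
            (Scheme.ΓSpecIso (CommRingCat.of A)).inv ≫ g.appTop) := by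
  set ψ : CommRingCat.of A ⟶ Γ(X', ⊤) := (Scheme.ΓSpecIso (CommRingCat.of A)).inv ≫ g.appTop
    with hψ
  set η : CommRingCat.of k ⟶ Γ(X, ⊤) := (Scheme.ΓSpecIso (CommRingCat.of k)).inv ≫ hX.appTop
    with hη
  have hpo : IsPushout ψ (CommRingCat.ofHom e.toRingHom) i.appTop η :=
    isPushout_Γ hX g i _ hsq
  have hker := Groth.Agent.H1.ker_of_isPushout_cat hpo (surjective_e e)
  have hsurj := Groth.Agent.H1.surjective_of_isPushout_cat hpo (surjective_e e)
  letI : Algebra A Γ(X', ⊤) := ψ.hom.toAlgebra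
  letI : Algebra k Γ(X, ⊤) := η.hom.toAlgebra
  letI : Algebra k Γ(X', ⊤) := (CommRingCat.ofHom (algebraMap k A) ≫ ψ).hom.toAlgebra
  haveI : IsScalarTower k A Γ(X', ⊤) := .of_algebraMap_eq' rfl
  haveI : Module.Flat A Γ(X', ⊤) := by
    have h1 : g.appTop.hom.Flat := (HasRingHomProperty.iff_of_isAffine (P := @Flat)).mp ‹Flat g›
    have h2 : (Scheme.ΓSpecIso (CommRingCat.of A)).inv.hom.Flat :=
      RingHom.Flat.of_bijective (ConcreteCategory.bijective_of_isIso _)
    exact RingHom.Flat.comp h2 h1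
  have hc1 : ∀ a : A, i.appTop.hom (ψ.hom a) = η.hom (e a) := fun a => by
    have := congrArg (fun f => f.hom a) hpo.w
    exact this
  let ιa : Γ(X', ⊤) →ₐ[k] Γ(X, ⊤) :=
    { i.appTop.hom with
      commutes' := fun c => by
        show i.appTop.hom (ψ.hom (algebraMap k A c)) = η.hom c
        rw [hc1, AlgHom.commutes]
        rfl }
  have hιa : ∀ x, ιa x = i.appTop.hom x := fun x => rfl
  have hker' : RingHom.ker ιa.toRingHom = (RingHom.ker e.toRingHom).map (algebraMap A Γ(X', ⊤)) :=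
    hker
  have hcompat : ∀ a, ιa (algebraMap A Γ(X', ⊤) a) = algebraMap k Γ(X, ⊤) (e a) := hc1
  constructor
  · intro σ hσ1 hσ2
    let σa : Γ(X, ⊤) →ₐ[k] Γ(X', ⊤) :=
      { σ.hom with
        commutes' := fun c => by
          have := congrArg (fun f => f.hom c) hσ2
          exact this }
    have hσa : ∀ b, ιa (σa b) = b := fun b => by
      have := congrArg (fun f => f.hom b) hσ1
      exact this
    obtain ⟨Φ, hΦ⟩ := exists_equiv_of_section e ιa hnil hker' hcompat σa hσa
    letI : Algebra Γ(X, ⊤) Γ(X', ⊤) := σ.hom.toAlgebra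
    haveI : IsScalarTower k Γ(X, ⊤) Γ(X', ⊤) := .of_algebraMap_eq' (by
      have := congrArg (fun f => f.hom) hσ2
      exact this.symm)
    have hAP : Algebra.IsPushout k A Γ(X, ⊤) Γ(X', ⊤) := by
      refine ⟨IsBaseChange.of_equiv Φ.toLinearEquiv (fun b => ?_)⟩
      show Φ (1 ⊗ₜ b) = σ.hom b
      rw [hΦ, map_one, one_mul]
      rfl
    have hpo2 : IsPushout (CommRingCat.ofHom (algebraMap k A)) η ψ σ :=
      CommRingCat.isPushout_iff_isPushout.mpr hAP
    have hpb := (isPullback_SpecMap_of_isPushout _ _ _ _ hpo2).flip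
    have hpb' : IsPullback (X'.isoSpec.hom ≫ Spec.map σ ≫ X.isoSpec.inv) g hX
        (Spec.map (CommRingCat.ofHom (algebraMap k A))) :=
      IsPullback.of_iso hpb X'.isoSpec.symm X.isoSpec.symm (Iso.refl _) (Iso.refl _)
        (by simp)
        (by rw [Iso.refl_hom, Category.comp_id, Iso.symm_hom, eq_comm, Iso.inv_comp_eq]
            exact eq_isoSpec_comp g)
        (by rw [Iso.refl_hom, Category.comp_id, Iso.symm_hom, eq_comm, Iso.inv_comp_eq]
            exact eq_isoSpec_comp hX)
        (by simp)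
    exact ⟨hpb'.isoPullback, hpb'.isoPullback_hom_snd, hpb'.isoPullback_hom_fst⟩
  · intro hsm
    haveI : Algebra.FormallySmooth k Γ(X, ⊤) := hsm
    obtain ⟨σa, hσa⟩ := exists_section e ιa hnil hsurj hker'
    refine ⟨CommRingCat.ofHom σa.toRingHom, ?_, ?_⟩
    · ext b
      exact hσa b
    · ext c
      exact σa.commutes c

end

end Groth.Agent.H8.TrivDef
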