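import Mathlib
import Groth.Agent.Lib.Helper8.TrivDef.Sch
import Groth.Agent.Lib.Helper8.TrivDef.Marked2

/-! First order deformations of a smooth affine scheme with marked points are trivial. -/

set_option autoImplicit false
set_option linter.style.haveILetI false
universe u v
open CategoryTheory Limits AlgebraicGeometry TensorProduct KaehlerDifferential

namespace Groth.Agent.H8.TrivDef

lemma eq_SpecMap_comp_isoSpec_inv {X : Scheme.{u}} [IsAffine X] {R : CommRingCat.{u}}
    (h : Spec R ⟶ X) :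
    h = Spec.map (h.appTop ≫ (Scheme.ΓSpecIso R).hom) ≫ X.isoSpec.inv := by
  rw [Spec.map_comp, Category.assoc, Scheme.isoSpec_inv_naturality, ← Scheme.isoSpec_Spec_hom,
    Iso.hom_inv_id_assoc]

lemma isNilpotent_ker_fstHom (k : Type u) [Field k] :
    IsNilpotent (RingHom.ker (TrivSqZeroExt.fstHom k k k).toRingHom) := by
  refine ⟨2, ?_⟩
  have hsq2 : ∀ I : Ideal (DualNumber k), I * I = ⊥ → I ^ 2 = 0 :=
    fun I hI => by rw [pow_two, hI]; rfl
  apply hsq2
  rw [← le_bot_iff, Ideal.mul_le]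
  intro x hx y hy
  rw [RingHom.mem_ker] at hx hy
  have hx' : x.fst = 0 := hx
  have hy' : y.fst = 0 := hy
  rw [Ideal.mem_bot]
  apply TrivSqZeroExt.ext
  · rw [TrivSqZeroExt.fst_mul, hx', zero_mul]
    rfl
  · rw [DualNumber.snd_mul, hx', hy', zero_mul, mul_zero, add_zero]
    rfl

theorem main15991
    (k : Type u) [Field k] (X : Scheme.{u}) (hX : X ⟶ Spec (CommRingCat.of k)) [IsAffine X]
    [Smooth hX]
    {ι : Type v} [Finite ι] (p : ι → (Spec (CommRingCat.of k) ⟶ X)) (hp : ∀ j, p j ≫ hX = 𝟙 _)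
    (hinj : Function.Injective p)
    (X' : Scheme.{u}) (g : X' ⟶ Spec (CommRingCat.of (DualNumber k))) [Flat g] (i : X ⟶ X')
    (hsq : IsPullback i hX g
      (Spec.map (CommRingCat.ofHom (TrivSqZeroExt.fstHom k k k).toRingHom)))
    (p' : ι → (Spec (CommRingCat.of (DualNumber k)) ⟶ X')) (hp' : ∀ j, p' j ≫ g = 𝟙 _)
    (hpp' : ∀ j, p j ≫ i =
      Spec.map (CommRingCat.ofHom (TrivSqZeroExt.fstHom k k k).toRingHom) ≫ p' j) :
    ∃ φ : X' ≅ Limits.pullback hX (Spec.map (CommRingCat.ofHom (algebraMap k (DualNumber k)))),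
      φ.hom ≫ Limits.pullback.snd hX
          (Spec.map (CommRingCat.ofHom (algebraMap k (DualNumber k)))) = g ∧
        i ≫ φ.hom ≫ Limits.pullback.fst hX
          (Spec.map (CommRingCat.ofHom (algebraMap k (DualNumber k)))) = 𝟙 X ∧
          ∀ j, p' j ≫ φ.hom ≫
              Limits.pullback.fst hX
                (Spec.map (CommRingCat.ofHom (algebraMap k (DualNumber k)))) =
            Spec.map (CommRingCat.ofHom (algebraMap k (DualNumber k))) ≫ p j := by
  set e : DualNumber k →ₐ[k] k := TrivSqZeroExt.fstHom k k k with he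
  have hnil : IsNilpotent (RingHom.ker e.toRingHom) := isNilpotent_ker_fstHom k
  haveI : IsAffine X' := isAffine_of_isPullback e hnil hX g i hsq
  obtain ⟨h1, h2⟩ := main_affine e hnil hX g i hsq
  set ψ : CommRingCat.of (DualNumber k) ⟶ Γ(X', ⊤) :=
    (Scheme.ΓSpecIso (CommRingCat.of (DualNumber k))).inv ≫ g.appTop with hψ
  set η : CommRingCat.of k ⟶ Γ(X, ⊤) := (Scheme.ΓSpecIso (CommRingCat.of k)).inv ≫ hX.appTop
    with hη
  have hsm : η.hom.FormallySmooth := by
    have h : hX.appTop.hom.Smooth :=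
      (HasRingHomProperty.iff_of_isAffine (P := @Smooth)).mp ‹Smooth hX›
    exact (RingHom.FormallySmooth.respectsIso.cancel_left_isIso
      (Scheme.ΓSpecIso (CommRingCat.of k)).inv hX.appTop).mpr h.1
  obtain ⟨σ₀, hσ₀1, hσ₀2⟩ := h2 hsm
  have hpo : IsPushout ψ (CommRingCat.ofHom e.toRingHom) i.appTop η :=
    isPushout_Γ hX g i _ hsq
  letI : Algebra (DualNumber k) Γ(X', ⊤) := ψ.hom.toAlgebra
  letI : Algebra k Γ(X, ⊤) := η.hom.toAlgebra
  letI : Algebra k Γ(X', ⊤) :=
    (CommRingCat.ofHom (algebraMap k (DualNumber k)) ≫ ψ).hom.toAlgebra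
  haveI : IsScalarTower k (DualNumber k) Γ(X', ⊤) := by
    have h := IsScalarTower.of_algebraMap_eq' (R := k) (S := DualNumber k) (A := Γ(X', ⊤)) rfl
    exact h
  have hc1 : ∀ a : DualNumber k, i.appTop.hom (ψ.hom a) = η.hom (e a) := fun a => by
    have := congrArg (fun f => f.hom a) hpo.w
    exact this
  let ιa : Γ(X', ⊤) →ₐ[k] Γ(X, ⊤) :=
    { i.appTop.hom with
      commutes' := fun c => by
        show i.appTop.hom (ψ.hom (algebraMap k (DualNumber k) c)) = η.hom c
        rw [hc1, AlgHom.commutes]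
        rfl }
  let σ₀a : Γ(X, ⊤) →ₐ[k] Γ(X', ⊤) :=
    { σ₀.hom with
      commutes' := fun c => by
        have := congrArg (fun f => f.hom c) hσ₀2
        exact this }
  have hσ₀a : ∀ b, ιa (σ₀a b) = b := fun b => by
    have := congrArg (fun f => f.hom b) hσ₀1
    exact this
  haveI : Algebra.FormallySmooth k Γ(X, ⊤) := hsm
  -- the marked points
  have hex : ∀ j, ∃ π : Γ(X, ⊤) ⟶ CommRingCat.of k, p j = Spec.map π ≫ X.isoSpec.inv :=
    fun j => ⟨_, eq_SpecMap_comp_isoSpec_inv (p j)⟩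
  choose πc hpj using hex
  have hex' : ∀ j, ∃ π : Γ(X', ⊤) ⟶ CommRingCat.of (DualNumber k),
      p' j = Spec.map π ≫ X'.isoSpec.inv :=
    fun j => ⟨_, eq_SpecMap_comp_isoSpec_inv (p' j)⟩
  choose πc' hpj' using hex'
  have eX : hX = X.isoSpec.hom ≫ Spec.map η := eq_isoSpec_comp hX
  have eg : g = X'.isoSpec.hom ≫ Spec.map ψ := eq_isoSpec_comp g
  have ei : i = X.isoSpec.hom ≫ Spec.map i.appTop ≫ X'.isoSpec.inv := by
    rw [← Category.assoc, Scheme.isoSpec_hom_naturality, Category.assoc, Iso.hom_inv_id,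
      Category.comp_id]
  have r1 : ∀ j, η ≫ πc j = 𝟙 _ := by
    intro j
    apply Spec.map_injective
    have := hp j
    rw [hpj j, eX] at this
    simpa using this
  have r2 : ∀ j, ψ ≫ πc' j = 𝟙 _ := by
    intro j
    apply Spec.map_injective
    have := hp' j
    rw [hpj' j, eg] at this
    simpa using this
  have r3 : ∀ j, i.appTop ≫ πc j = πc' j ≫ CommRingCat.ofHom e.toRingHom := by
    intro j
    apply Spec.map_injective
    have := hpp' j
    rw [hpj j, hpj' j, ei] at this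
    simp only [Category.assoc, Iso.inv_hom_id_assoc] at this
    rw [← Spec.map_comp_assoc, ← Spec.map_comp_assoc, Iso.cancel_iso_inv_right] at this
    exact this
  let qa : ι → (Γ(X, ⊤) →ₐ[k] k) := fun j =>
    { (πc j).hom with
      commutes' := fun c => by
        have := congrArg (fun f => f.hom c) (r1 j)
        exact this }
  let π'a : ι → (Γ(X', ⊤) →ₐ[DualNumber k] DualNumber k) := fun j =>
    { (πc' j).hom with
      commutes' := fun l => by
        have := congrArg (fun f => f.hom l) (r2 j)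
        exact this }
  have hq : Function.Injective qa := by
    intro j l hjl
    apply hinj
    rw [hpj j, hpj l]
    congr 2
    ext b
    exact AlgHom.congr_fun hjl b
  have hπ' : ∀ j b', (π'a j b').fst = qa j (ιa b') := by
    intro j b'
    have := congrArg (fun f => f.hom b') (r3 j)
    exact this.symm
  have hιa : ∀ l : DualNumber k,
      ιa (algebraMap (DualNumber k) Γ(X', ⊤) l) = algebraMap k Γ(X, ⊤) l.fst := hc1
  obtain ⟨σa, hσa1, hσa2⟩ := exists_marked_section k ιa hιa σ₀a hσ₀a qa hq π'a hπ'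
  let σ : Γ(X, ⊤) ⟶ Γ(X', ⊤) := CommRingCat.ofHom σa.toRingHom
  have hσ1 : σ ≫ i.appTop = 𝟙 Γ(X, ⊤) := by
    refine CommRingCat.hom_ext (RingHom.ext fun b => ?_)
    exact hσa1 b
  have hσ2 : η ≫ σ =
      CommRingCat.ofHom (algebraMap k (DualNumber k)) ≫ ψ := by
    refine CommRingCat.hom_ext (RingHom.ext fun c => ?_)
    exact σa.commutes c
  obtain ⟨φ, hφ1, hφ2⟩ := h1 σ hσ1 hσ2
  refine ⟨φ, hφ1, ?_, fun j => ?_⟩
  · rw [hφ2]
    conv_lhs => rw [ei]
    simp only [Category.assoc, Iso.inv_hom_id_assoc]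
    rw [← Spec.map_comp_assoc, hσ1, Spec.map_id, Category.id_comp, Iso.hom_inv_id]
  · rw [hφ2, hpj' j, hpj j]
    simp only [Category.assoc, Iso.inv_hom_id_assoc]
    rw [← Spec.map_comp_assoc, ← Spec.map_comp_assoc]
    congr 2
    refine CommRingCat.hom_ext (RingHom.ext fun b => ?_)
    exact hσa2 j b

end Groth.Agent.H8.TrivDef
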