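import Mathlib
import Groth.Agent.Lib.Helper8.TrivDef.Sch
import Groth.Agent.Lib.Helper8.HopfDim.Core

/-! Deformations of a regular affine variety over a local Artinian base are trivial. -/

set_option autoImplicit false
set_option linter.style.haveILetI false
universe u
open CategoryTheory Limits AlgebraicGeometry TensorProduct

namespace Groth.Agent.H8.TrivDef

/-- the augmentation ideal of a local Artinian algebra is nilpotent -/
lemma isNilpotent_ker_of_artinian {k : Type u} [Field k] {A : Type u} [CommRing A] [IsLocalRing A]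
    [IsArtinianRing A] [Algebra k A] (e : A →ₐ[k] k) : IsNilpotent (RingHom.ker e.toRingHom) := by
  haveI : (RingHom.ker e.toRingHom).IsMaximal :=
    RingHom.ker_isMaximal_of_surjective _ (surjective_e e)
  rw [IsLocalRing.eq_maximalIdeal (inferInstance : (RingHom.ker e.toRingHom).IsMaximal),
    ← IsLocalRing.jacobson_eq_maximalIdeal (⊥ : Ideal A) bot_ne_top]
  exact IsArtinianRing.isNilpotent_jacobson_bot

/-- regular stalks + finite type over an algebraically closed field give formal smoothness of
the ring of global sections -/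
theorem formallySmooth_of_regular (k : Type u) [Field k] [IsAlgClosed k] (X : Scheme.{u})
    (hX : X ⟶ Spec (CommRingCat.of k)) [IsAffine X] [LocallyOfFiniteType hX]
    (hreg : ∀ x : X, IsRegularLocalRing (X.presheaf.stalk x)) :
    ((Scheme.ΓSpecIso (CommRingCat.of k)).inv ≫ hX.appTop).hom.FormallySmooth := by
  set η : CommRingCat.of k ⟶ Γ(X, ⊤) := (Scheme.ΓSpecIso (CommRingCat.of k)).inv ≫ hX.appTop
    with hη
  letI : Algebra k Γ(X, ⊤) := η.hom.toAlgebra
  haveI : Algebra.FiniteType k Γ(X, ⊤) := by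
    have h1 : hX.appTop.hom.FiniteType :=
      (HasRingHomProperty.iff_of_isAffine (P := @LocallyOfFiniteType)).mp ‹LocallyOfFiniteType hX›
    have h2 : (Scheme.ΓSpecIso (CommRingCat.of k)).inv.hom.FiniteType :=
      RingHom.FiniteType.of_surjective _ (ConcreteCategory.bijective_of_isIso _).2
    exact RingHom.FiniteType.comp h1 h2
  haveI : Algebra.FinitePresentation k Γ(X, ⊤) :=
    Algebra.FinitePresentation.of_finiteType.mp inferInstance
  show Algebra.FormallySmooth k Γ(X, ⊤)
  rw [← Algebra.smoothLocus_eq_univ_iff]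
  refine Set.eq_univ_of_forall fun p => ?_
  show Algebra.IsSmoothAt k p.asIdeal
  rw [Groth.Agent.H8.HopfDim.isSmoothAt_iff_isRegularLocalRing k Γ(X, ⊤) p.asIdeal]
  have hU := isAffineOpen_top X
  letI : Algebra Γ(X, ⊤) (X.presheaf.stalk (hU.fromSpec p)) :=
    TopCat.Presheaf.algebra_section_stalk X.presheaf
      (⟨hU.fromSpec p, trivial⟩ : ((⊤ : X.Opens) : Set X))
  haveI : IsLocalization.AtPrime (X.presheaf.stalk (hU.fromSpec p)) p.asIdeal :=
    hU.isLocalization_stalk' p trivial
  haveI := hreg (hU.fromSpec p)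
  exact IsRegularLocalRing.of_ringEquiv
    (IsLocalization.algEquiv p.asIdeal.primeCompl (X.presheaf.stalk (hU.fromSpec p))
      (Localization.AtPrime p.asIdeal)).toRingEquiv

theorem main11452 (k : Type u) [Field k]
    [IsAlgClosed k] (X : Scheme.{u}) (hX : X ⟶ Spec (CommRingCat.of k)) [IsAffine X]
    [LocallyOfFiniteType hX] (hreg : ∀ x : X, IsRegularLocalRing (X.presheaf.stalk x))
    (A : Type u) [CommRing A] [IsLocalRing A] [IsArtinianRing A] [Algebra k A] (e : A →ₐ[k] k)
    (X' : Scheme.{u}) (g : X' ⟶ Spec (CommRingCat.of A)) [Flat g] (i : X ⟶ X')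
    (hsq : IsPullback i hX g (Spec.map (CommRingCat.ofHom e.toRingHom))) :
    ∃ φ : X' ≅ Limits.pullback hX (Spec.map (CommRingCat.ofHom (algebraMap k A))),
      φ.hom ≫ Limits.pullback.snd hX (Spec.map (CommRingCat.ofHom (algebraMap k A))) = g := by
  have hnil := isNilpotent_ker_of_artinian e
  haveI : IsAffine X' := isAffine_of_isPullback e hnil hX g i hsq
  obtain ⟨h1, h2⟩ := main_affine e hnil hX g i hsq
  obtain ⟨σ, hσ1, hσ2⟩ := h2 (formallySmooth_of_regular k X hX hreg)
  obtain ⟨φ, hφ, -⟩ := h1 σ hσ1 hσ2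
  exact ⟨φ, hφ⟩

end Groth.Agent.H8.TrivDef
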